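import Groth.Prelude.Def_Dix
import Groth.Agent.S0125
import Groth.Agent.EtpbcA.CdEtLeray
import Groth.Agent.EtpbcA.RpushTors
import Groth.Agent.Etbase.EtSections
import Groth.Agent.Etcore.DerLES

/-!
# ℓ-primary torsion sheaves

* `isTorsion`: an ℓ-primary torsion sheaf is torsion;
* `isIso_nsmul`: multiplication by `m` prime to `ℓ` is an isomorphism on an ℓ-primary torsion sheaf;
* `of_isTorsion`: a torsion sheaf on which all `m` prime to `ℓ` act as isomorphisms is ℓ-primary torsion;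
* `rpush`: higher direct images of ℓ-primary torsion sheaves along qcqs morphisms are ℓ-primary torsion;
* `cohDimLEAt_of_relCohDimLE`: `cd(f) ≤ a`, `cd_ℓ(Y) ≤ b` imply `cd_ℓ(X) ≤ a + b`.
-/

set_option autoImplicit false
universe u

open CategoryTheory CategoryTheory.Limits AlgebraicGeometry Opposite

namespace Groth.Agent.Etbc.H200.PrimTors

open Groth.Agent.EtpbcA.RpushTors Groth.Agent.Etbase

variable {X Y : Scheme.{u}}

/-- An ℓ-primary torsion sheaf is torsion. -/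
theorem isTorsion (ℓ : ℕ) (hℓ : 0 < ℓ) (F : EtCoh.Ab X) (hF : Dix.IsPrimaryTorsion ℓ F) :
    EtCoh.IsTorsion F := by
  intro U s x
  obtain ⟨V, g, hv, k, hk⟩ := hF U s x
  refine ⟨V, g, hv, ?_⟩
  rw [isOfFinAddOrder_iff_nsmul_eq_zero]
  exact ⟨ℓ ^ k, pow_pos hℓ k, hk⟩

/-- ℓ-primary torsion is invariant under isomorphism. -/
theorem of_iso (ℓ : ℕ) {F G : EtCoh.Ab X} (e : F ≅ G) (h : Dix.IsPrimaryTorsion ℓ F) :
    Dix.IsPrimaryTorsion ℓ G := by
  intro U s x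
  obtain ⟨V, g, hv, k, hk⟩ := h U (e.inv.hom.app (op U) s) x
  refine ⟨V, g, hv, k, ?_⟩
  apply injective_of_mono e.inv V
  rw [map_nsmul, map_zero]
  have := NatTrans.naturality_apply e.inv.hom g.op s
  exact (congrArg (fun t => (ℓ ^ k) • t) this).trans hk

theorem nsmul_id_app (F : EtCoh.Ab X) (m : ℕ) (U : X.Etale) (s : EtCoh.sect F U) :
    (m • 𝟙 F : F ⟶ F).hom.app (op U) s = m • s := by
  induction m with
  | zero => rw [zero_nsmul, zero_nsmul]; rfl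
  | succ m ih =>
    rw [succ_nsmul, succ_nsmul, ← ih]
    rfl

/-- A morphism of sheaves injective on sections is a monomorphism. -/
theorem mono_of_injective {G F : EtCoh.Ab X} (φ : G ⟶ F)
    (h : ∀ U : X.Etale, Function.Injective (φ.hom.app (op U))) : Mono φ := by
  refine ⟨fun {Z} a b hab => ?_⟩
  ext U s
  apply h U.unop
  exact ConcreteCategory.congr_hom (congrArg (fun t : Z ⟶ F => t.hom.app U) hab) s

/-- Multiplication by `m` prime to `ℓ` is an isomorphism on an ℓ-primary torsion sheaf. -/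
theorem isIso_nsmul (ℓ : ℕ) (F : EtCoh.Ab X) (hF : Dix.IsPrimaryTorsion ℓ F) (m : ℕ)
    (hm : Nat.Coprime m ℓ) : IsIso (m • 𝟙 F : F ⟶ F) := by
  have key : ∀ k : ℕ, ∃ a b : ℤ, a * m + b * (ℓ ^ k : ℕ) = 1 := fun k => by
    have h1 : Nat.Coprime m (ℓ ^ k) := Nat.Coprime.pow_right k hm
    have h2 : IsCoprime (m : ℤ) ((ℓ ^ k : ℕ) : ℤ) := Nat.isCoprime_iff_coprime.2 h1
    exact h2
  have hmono : Mono (m • 𝟙 F : F ⟶ F) := by
    apply mono_of_injective
    intro U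
    rw [injective_iff_map_eq_zero]
    intro s hs
    rw [nsmul_id_app] at hs
    refine EtSections.eq_zero_of_vanishesAt F U s fun x => ?_
    obtain ⟨V, g, ⟨v, hv⟩, k, hk⟩ := hF U s x
    refine ⟨V, g, v, hv, ?_⟩
    obtain ⟨a, b, hab⟩ := key k
    have h1 : F.obj.map g.op s = (a * m + b * (ℓ ^ k : ℕ)) • F.obj.map g.op s := by
      rw [hab, one_smul]
    have h2 : m • F.obj.map g.op s = 0 := by
      rw [← map_nsmul, hs, map_zero]
    rw [h1, add_smul, mul_smul, mul_smul, natCast_zsmul, natCast_zsmul, h2, hk, smul_zero, smul_zero,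
      add_zero]
  have hepi : Epi (m • 𝟙 F : F ⟶ F) := by
    rw [Groth.Agent.EtpbcA.StalkTools.epi_iff_locIm]
    intro U s x
    obtain ⟨V, g, ⟨v, hv⟩, k, hk⟩ := hF U s x
    obtain ⟨a, b, hab⟩ := key k
    refine ⟨V, g, v, hv, a • F.obj.map g.op s, ?_⟩
    rw [nsmul_id_app]
    have h1 : F.obj.map g.op s = (a * m + b * (ℓ ^ k : ℕ)) • F.obj.map g.op s := by
      rw [hab, one_smul]
    have h3 : m • a • F.obj.map g.op s = (a * m) • F.obj.map g.op s := by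
      rw [mul_comm, mul_smul, natCast_zsmul]
    rw [h3]
    conv_rhs => rw [h1, add_smul, mul_smul b, natCast_zsmul, hk, smul_zero, add_zero]
  exact isIso_of_mono_of_epi _

/-- A torsion sheaf on which all `m` prime to `ℓ` act injectively is ℓ-primary torsion. -/
theorem of_isTorsion (ℓ : ℕ) (hℓ : ℓ.Prime) (F : EtCoh.Ab X) (hF : EtCoh.IsTorsion F)
    (h : ∀ m : ℕ, Nat.Coprime m ℓ → Mono (m • 𝟙 F : F ⟶ F)) : Dix.IsPrimaryTorsion ℓ F := by
  intro U s x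
  obtain ⟨V, g, hv, hg⟩ := hF U s x
  refine ⟨V, g, hv, ?_⟩
  rw [isOfFinAddOrder_iff_nsmul_eq_zero] at hg
  obtain ⟨n, hn, hns⟩ := hg
  obtain ⟨k, m, hm, rfl⟩ := Nat.exists_eq_pow_mul_and_not_dvd hn.ne' ℓ hℓ.ne_one
  refine ⟨k, ?_⟩
  have hcop : Nat.Coprime m ℓ := (Nat.coprime_comm).1 ((Nat.Prime.coprime_iff_not_dvd hℓ).2 hm)
  have := h m hcop
  apply injective_of_mono (m • 𝟙 F : F ⟶ F) V
  rw [nsmul_id_app, map_zero, ← mul_nsmul]
  exact hns

/-- The higher direct images of an ℓ-primary torsion sheaf along a quasi-compact quasi-separated morphism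
are ℓ-primary torsion. -/
theorem rpush (ℓ : ℕ) (hℓ : ℓ.Prime) (f : X ⟶ Y) [QuasiCompact f] [QuasiSeparated f]
    (F : EtCoh.Ab X) (hF : Dix.IsPrimaryTorsion ℓ F) (q : ℕ) :
    Dix.IsPrimaryTorsion ℓ ((EtCoh.Rpush f q).obj F) := by
  refine of_isTorsion ℓ hℓ _ (Groth.Agent.S0125.result f F (isTorsion ℓ hℓ.pos F hF) q) fun m hm => ?_
  have h1 : IsIso (m • 𝟙 F : F ⟶ F) := isIso_nsmul ℓ F hF m hm
  have hadd : (EtCoh.Rpush f q).Additive := by
    unfold EtCoh.Rpush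
    infer_instance
  have h2 : (EtCoh.Rpush f q).map (m • 𝟙 F : F ⟶ F) = m • 𝟙 ((EtCoh.Rpush f q).obj F) := by
    rw [CategoryTheory.Functor.map_nsmul, CategoryTheory.Functor.map_id]
  rw [← h2]
  infer_instance

theorem push (ℓ : ℕ) (hℓ : ℓ.Prime) (f : X ⟶ Y) [QuasiCompact f] [QuasiSeparated f]
    (F : EtCoh.Ab X) (hF : Dix.IsPrimaryTorsion ℓ F) :
    Dix.IsPrimaryTorsion ℓ ((EtCoh.push f).obj F) := by
  have : PreservesFiniteLimits (EtCoh.push f) := by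
    have := (EtCoh.pullPushAdj f).rightAdjoint_preservesLimits
    infer_instance
  exact of_iso ℓ ((EtCoh.push f).rightDerivedZeroIsoSelf.app F) (rpush ℓ hℓ f F hF 0)

/-- `cd(f) ≤ a` on ℓ-primary torsion sheaves and `cd_ℓ(Y) ≤ b` imply `cd_ℓ(X) ≤ a + b`. -/
theorem cohDimLEAt_of_rel (ℓ : ℕ) (hℓ : ℓ.Prime) (f : X ⟶ Y) [QuasiCompact f] [QuasiSeparated f]
    (a b : ℕ)
    (ha : ∀ F : EtCoh.Ab X, Dix.IsPrimaryTorsion ℓ F → ∀ q, a < q → IsZero ((EtCoh.Rpush f q).obj F))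
    (hb : Dix.CohDimLEAt Y ℓ b) : Dix.CohDimLEAt X ℓ (a + b) := by
  intro F hF n hn
  refine Groth.Agent.EtpbcA.CdEtLeray.H_subsingleton_of_leray f F n
    (hb _ (push ℓ hℓ f F hF) n (by omega)) fun p q hpq => ?_
  by_cases hq : a < q + 1
  · exact Groth.Agent.EtpbcA.CdEtLeray.H_subsingleton_of_isZero (ha F hF (q + 1) hq) p
  · exact hb _ (rpush ℓ hℓ f F hF (q + 1)) p (by omega)

/-- `cd(f) ≤ a` and `cd_ℓ(Y) ≤ b` imply `cd_ℓ(X) ≤ a + b`. -/
theorem cohDimLEAt_of_relCohDimLE (ℓ : ℕ) (hℓ : ℓ.Prime) (f : X ⟶ Y) [QuasiCompact f] [QuasiSeparated f]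
    (a b : ℕ) (ha : EtCoh.RelCohDimLE f a) (hb : Dix.CohDimLEAt Y ℓ b) : Dix.CohDimLEAt X ℓ (a + b) :=
  cohDimLEAt_of_rel ℓ hℓ f a b (fun F hF => ha F (isTorsion ℓ hℓ.pos F hF)) hb

end Groth.Agent.Etbc.H200.PrimTors
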